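import Mathlib.Topology.Category.TopCommRingCat
import Mathlib.Topology.Category.TopCat.Limits.Basic
import Mathlib.Algebra.Category.Ring.Limits
import Mathlib.Algebra.Category.Ring.Colimits

/-!
# Limits and colimits of topological rings
-/

set_option autoImplicit false
universe u

open CategoryTheory CategoryTheory.Limits Topology

namespace Groth.Agent.TopRing

theorem isTopologicalRing_induced {R S : Type u} [CommRing R] [CommRing S] [t : TopologicalSpace S]
    [IsTopologicalRing S] (f : R →+* S) : @IsTopologicalRing R (t.induced f) _ := by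
  letI := t.induced f
  have : ContinuousAdd R := continuousAdd_induced f
  have : ContinuousMul R := continuousMul_induced f
  have : ContinuousNeg R := ⟨continuous_induced_rng.2 ((continuous_induced_dom : Continuous f).neg.congr fun x => (map_neg f x).symm)⟩
  exact {}

theorem isTopologicalRing_sInf {R : Type u} [CommRing R] {ts : Set (TopologicalSpace R)}
    (h : ∀ t ∈ ts, @IsTopologicalRing R t _) : @IsTopologicalRing R (sInf ts) _ := by
  letI := sInf ts
  have : ContinuousAdd R := continuousAdd_sInf fun t ht => (h t ht).toContinuousAdd
  have : ContinuousMul R := continuousMul_sInf fun t ht => (h t ht).toContinuousMul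
  have : ContinuousNeg R := continuousNeg_sInf fun t ht => (h t ht).toContinuousNeg
  exact {}

variable {J : Type u} [SmallCategory J] (F : J ⥤ TopCommRingCat.{u})

/-- The forgetful functor to rings. -/
abbrev U : TopCommRingCat.{u} ⥤ CommRingCat.{u} := forget₂ TopCommRingCat.{u} CommRingCat.{u}

/-- The underlying diagram of rings. -/
noncomputable abbrev ringDiag : J ⥤ CommRingCat.{u} := F ⋙ U

/-- The topology of the limit. -/
noncomputable def limTop : TopologicalSpace ((limit (ringDiag F) : CommRingCat.{u}) : Type u) :=
  sInf (Set.range fun j => (F.obj j).isTopologicalSpace.induced (limit.π (ringDiag F) j).hom)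

theorem isTopologicalRing_limTop : @IsTopologicalRing _ (limTop F) _ :=
  isTopologicalRing_sInf fun _ ⟨j, hj⟩ => hj ▸ isTopologicalRing_induced (t := (F.obj j).isTopologicalSpace) _

/-- The limit object. -/
noncomputable def limPt : TopCommRingCat.{u} :=
  @TopCommRingCat.of (limit (ringDiag F) : CommRingCat.{u}) _ (limTop F) (isTopologicalRing_limTop F)

theorem continuous_limπ (j : J) :
    Continuous[limTop F, (F.obj j).isTopologicalSpace] (limit.π (ringDiag F) j).hom :=
  continuous_sInf_dom ⟨j, rfl⟩ continuous_induced_dom

/-- The limit cone. -/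
noncomputable def limCone : Cone F where
  pt := limPt F
  π :=
    { app := fun j => ⟨(limit.π (ringDiag F) j).hom, continuous_limπ F j⟩
      naturality := fun i j a => Subtype.ext (congrArg CommRingCat.Hom.hom
        ((limit.cone (ringDiag F)).π.naturality a)) }

/-- The limit cone is limiting. -/
noncomputable def limConeIsLimit : IsLimit (limCone F) where
  lift s := ⟨(limit.lift (ringDiag F) (Functor.mapCone U s)).hom, by
    refine continuous_sInf_rng.2 ?_
    rintro _ ⟨j, rfl⟩
    refine continuous_induced_rng.2 ?_
    have h := congrArg CommRingCat.Hom.hom (limit.lift_π (Functor.mapCone U s) j)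
    exact (congrArg (fun f : s.pt →+* F.obj j => Continuous f) h).mpr (s.π.app j).2⟩
  fac s j := Subtype.ext (congrArg CommRingCat.Hom.hom (limit.lift_π (Functor.mapCone U s) j))
  uniq s m hm := Subtype.ext (congrArg CommRingCat.Hom.hom ((limit.isLimit (ringDiag F)).uniq
    (Functor.mapCone U s) (CommRingCat.ofHom m.1) fun j => CommRingCat.hom_ext
      (congrArg Subtype.val (hm j))))

theorem preservesLimit_ring : PreservesLimit F U :=
  preservesLimit_of_preserves_limit_cone (limConeIsLimit F)
    ((limit.isLimit (ringDiag F)).ofIsoLimit (Cone.ext (Iso.refl _) fun _ => (Category.id_comp _).symm))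

theorem preservesLimit_top : PreservesLimit F (forget₂ TopCommRingCat.{u} TopCat.{u}) := by
  let c := (forget₂ TopCommRingCat.{u} TopCat.{u}).mapCone (limCone F)
  have hc : IsLimit ((forget TopCat.{u}).mapCone c) :=
    (isLimitOfPreserves (forget CommRingCat.{u}) (limit.isLimit (ringDiag F))).ofIsoLimit
      (Cone.ext (Iso.refl _) fun _ => rfl)
  have htop : c.pt.str = ⨅ j, TopologicalSpace.induced (c.π.app j)
      ((F ⋙ forget₂ TopCommRingCat.{u} TopCat.{u}).obj j).str := sInf_range
  exact preservesLimit_of_preserves_limit_cone (limConeIsLimit F)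
    ((TopCat.nonempty_isLimit_iff_eq_induced c hc).2 htop).some

/-- The topology of the colimit. -/
noncomputable def colimTop : TopologicalSpace ((colimit (ringDiag F) : CommRingCat.{u}) : Type u) :=
  sInf {t | @IsTopologicalRing _ t _ ∧
    ∀ j, Continuous[(F.obj j).isTopologicalSpace, t] (colimit.ι (ringDiag F) j).hom}

theorem isTopologicalRing_colimTop : @IsTopologicalRing _ (colimTop F) _ :=
  isTopologicalRing_sInf fun _ ht => ht.1

/-- The colimit object. -/
noncomputable def colimPt : TopCommRingCat.{u} :=
  @TopCommRingCat.of (colimit (ringDiag F) : CommRingCat.{u}) _ (colimTop F)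
    (isTopologicalRing_colimTop F)

/-- The colimit cocone. -/
noncomputable def colimCocone : Cocone F where
  pt := colimPt F
  ι :=
    { app := fun j => ⟨(colimit.ι (ringDiag F) j).hom, continuous_sInf_rng.2 fun _ ht => ht.2 j⟩
      naturality := fun i j a => Subtype.ext (congrArg CommRingCat.Hom.hom
        ((colimit.cocone (ringDiag F)).ι.naturality a)) }

/-- The colimit cocone is colimiting. -/
noncomputable def colimCoconeIsColimit : IsColimit (colimCocone F) where
  desc s := ⟨(colimit.desc (ringDiag F) (Functor.mapCocone U s)).hom, by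
    refine continuous_le_dom (sInf_le ⟨?_, fun j => continuous_induced_rng.2 ?_⟩) continuous_induced_dom
    · exact isTopologicalRing_induced (t := s.pt.isTopologicalSpace) _
    · have h := congrArg CommRingCat.Hom.hom (colimit.ι_desc (Functor.mapCocone U s) j)
      exact (congrArg (fun f : F.obj j →+* s.pt => Continuous f) h).mpr (s.ι.app j).2⟩
  fac s j := Subtype.ext (congrArg CommRingCat.Hom.hom (colimit.ι_desc (Functor.mapCocone U s) j))
  uniq s m hm := Subtype.ext (congrArg CommRingCat.Hom.hom ((colimit.isColimit (ringDiag F)).uniq
    (Functor.mapCocone U s) (CommRingCat.ofHom m.1) fun j => CommRingCat.hom_ext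
      (congrArg Subtype.val (hm j))))

theorem preservesColimit_ring : PreservesColimit F U :=
  preservesColimit_of_preserves_colimit_cocone (colimCoconeIsColimit F)
    ((colimit.isColimit (ringDiag F)).ofIsoColimit
      (Cocone.ext (Iso.refl _) fun _ => (Category.comp_id _)))

theorem hasLimit : HasLimit F := ⟨⟨⟨limCone F, limConeIsLimit F⟩⟩⟩

theorem hasColimit : HasColimit F := ⟨⟨⟨colimCocone F, colimCoconeIsColimit F⟩⟩⟩

end Groth.Agent.TopRing
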